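import Cfsg.Agent.Chev.AutThm.OutG2F4
import Cfsg.Agent.Chev.AutThm.CertE8
import Cfsg.Agent.Chev.GraphData

/-!
# The node permutations and outer automorphism groups of D₄, E₆, E₇, E₈; the structure theorem
-/

set_option autoImplicit false
set_option maxRecDepth 100000

namespace CfsgLib.Chev.AutThm

open Cfsg.Lie CfsgLib.Chev

universe u

/-- A symmetry of D4 exchanging two outer nodes. -/
def graphD4Swap : Twisted.Graph chevD4 where
  tau i := [2, 1, 0, 3].getD i 0
  rho r := [0, 1, 2, 6, 7, 10, 3, 4, 8, 9, 5, 11, 12, 18, 14, 15, 19, 20, 13, 16, 17, 21, 22, 23].getD r 0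
  eps r := ([1, 1, 1, -1, -1, 1, -1, -1, 1, 1, 1, 1, 1, 1, 1, 1, -1, -1, 1, -1, -1, 1, 1, 1] : List ℤ).getD r 0
  tau_lt := by decide +kernel
  tau_inj := by decide +kernel
  rho_lt := by decide +kernel
  rho_inj := by decide +kernel
  rho_pos := by decide +kernel
  rho_neg := by decide +kernel
  rho_simple := by decide +kernel
  eps_unit := by decide +kernel
  eps_neg := by decide +kernel
  eps_simple := by decide +kernel
  cartan_tau := by decide +kernel
  cor_tau := by decide +kernel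
  chain_rho := by decide +kernel

theorem syms_B2 : (syms chevB2).length = 2 := by decide +kernel
theorem syms_D4 : (syms chevD4).length = 6 := by decide +kernel
theorem syms_E6 : (syms chevE6).length = 2 := by decide +kernel
theorem syms_E7 : (syms chevE7).length = 1 := by decide +kernel
theorem syms_E8 : (syms chevE8).length = 1 := by decide +kernel

theorem symCert_id {D : ChevalleyDatum} (h : OneLength D) : SymCert D id 0 := by
  refine ⟨fun i j hij hA => Or.inl ?_, Or.inl fun i => by simp [expFlag, h.2 i]⟩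
  have hA1 := (h.1 i j hij).2.resolve_left hA
  exact ⟨hA1, hA1, by simp [expFlag, h.2 i, h.2 j]⟩

variable (F : Type u) [Field F] [Finite F]

theorem perm_E6 : Nat.card (sysE6.{u}.nodePermHom (F := F)).range = 2 := by
  refine sysE6.card_perm_eq_two bondOK_E6 syms_E6 (sysE6.graph_mem_range (F := F) graphE6) fun h => ?_
  have h0 := congrArg (fun π : Equiv.Perm (Fin chevE6.rank) => (π ⟨0, by decide⟩ : ℕ)) h
  simp only [Twisted.Graph.tauP_apply, Equiv.Perm.one_apply] at h0
  revert h0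
  decide +kernel

theorem perm_E7 : Nat.card (sysE7.{u}.nodePermHom (F := F)).range = 1 :=
  sysE7.card_perm_eq_one bondOK_E7 syms_E7

theorem perm_E8 : Nat.card (sysE8.{u}.nodePermHom (F := F)).range = 1 :=
  sysE8.card_perm_eq_one bondOK_E8 syms_E8

theorem perm_D4 : Nat.card (sysD4.{u}.nodePermHom (F := F)).range = 6 ∧
    ∃ a b : (sysD4.{u}.nodePermHom (F := F)).range, a * b ≠ b * a := by
  set c : (sysD4.{u}.nodePermHom (F := F)).range := ⟨_, sysD4.graph_mem_range (F := F) graphD4Cyc⟩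
  set t : (sysD4.{u}.nodePermHom (F := F)).range := ⟨_, sysD4.graph_mem_range (F := F) graphD4Swap⟩
  let v : Equiv.Perm (Fin chevD4.rank) → List ℕ := permList
  have hv : ∀ G : Twisted.Graph chevD4, v G.tauP = (List.range chevD4.rank).map G.tau := fun G => by
    show (List.finRange _).map (fun i => (G.tauP i : ℕ)) = _
    simp only [Twisted.Graph.tauP_apply]
    rw [← List.map_coe_finRange_eq_range, List.map_map]
    rfl
  have hne : c * t ≠ t * c := by
    intro e
    have h0 := congrArg (fun π : (sysD4.{u}.nodePermHom (F := F)).range =>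
      ((π : Equiv.Perm (Fin chevD4.rank)) ⟨0, by decide⟩ : ℕ)) e
    simp only [c, t, Subgroup.coe_mul, Equiv.Perm.mul_apply, Twisted.Graph.tauP_apply] at h0
    revert h0
    decide +kernel
  refine ⟨le_antisymm (syms_D4 ▸ sysD4.card_perm_le bondOK_D4) ?_, c, t, hne⟩
  by_contra hlt
  have hord : ∀ {G : Twisted.Graph chevD4} {n : ℕ} [Fact n.Prime],
      (∀ i : ℕ, i < chevD4.rank → G.tau^[n] i = i) → G.tau 0 ≠ 0 → orderOf G.tauP = n := by
    intro G n _ hn h1
    refine orderOf_eq_prime (Equiv.ext fun i => Fin.ext ?_) fun e => h1 ?_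
    · have hit : ∀ (m : ℕ) (j : Fin chevD4.rank), ((G.tauP ^ m) j : ℕ) = G.tau^[m] j := by
        intro m
        induction m with
        | zero => intro j; rfl
        | succ m ih =>
          intro j
          rw [pow_succ', Equiv.Perm.mul_apply, G.tauP_apply, ih, Function.iterate_succ_apply']
      rw [hit, Equiv.Perm.one_apply]
      exact hn i i.2
    · have := G.tauP_apply ⟨0, by decide⟩
      rw [e] at this
      simpa using this.symm
  haveI : Fact (Nat.Prime 3) := ⟨Nat.prime_three⟩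
  have h3 : 3 ∣ Nat.card (sysD4.{u}.nodePermHom (F := F)).range := by
    have := orderOf_dvd_natCard c
    rwa [← Subgroup.orderOf_coe, show (c : Equiv.Perm _) = graphD4Cyc.tauP from rfl,
      hord (n := 3) (by decide +kernel) (by decide +kernel)] at this
  have h2 : 2 ∣ Nat.card (sysD4.{u}.nodePermHom (F := F)).range := by
    have := orderOf_dvd_natCard t
    rwa [← Subgroup.orderOf_coe, show (t : Equiv.Perm _) = graphD4Swap.tauP from rfl,
      hord (n := 2) (by decide +kernel) (by decide +kernel)] at this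
  have h6 := Nat.le_of_dvd Nat.card_pos (Nat.Coprime.mul_dvd_of_dvd_of_dvd (by norm_num) h3 h2)
  exact hlt h6

theorem card_out_E6 [Fintype F] (p f : ℕ) [Fact p.Prime] [CharP F p] (hF : Fintype.card F = p ^ f) :
    Nat.card (Cfsg.Out (chevE6.group F)) = 2 * Nat.gcd 3 (p ^ f - 1) * f := by
  rw [sysE6.card_out connOK_E6 (symCert_id one_E6) torE6 (by decide), perm_E6,
    (ringAut_cyclic_card F hF).2, Nat.card_eq_fintype_card, hF]
  show 2 * ((∏ i : Fin 6, (p ^ f - 1).gcd (([1, 1, 1, 1, 1, 3] : List ℕ).getD i 0)) * f) = _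
  simp [Fin.prod_univ_succ, Nat.gcd_comm, mul_assoc]

theorem card_out_E7 [Fintype F] (p f : ℕ) [Fact p.Prime] [CharP F p] (hF : Fintype.card F = p ^ f) :
    Nat.card (Cfsg.Out (chevE7.group F)) = Nat.gcd 2 (p ^ f - 1) * f := by
  rw [sysE7.card_out connOK_E7 (symCert_id one_E7) torE7 (by decide), perm_E7,
    (ringAut_cyclic_card F hF).2, Nat.card_eq_fintype_card, hF]
  show 1 * ((∏ i : Fin 7, (p ^ f - 1).gcd (([1, 1, 1, 1, 1, 1, 2] : List ℕ).getD i 0)) * f) = _
  simp [Fin.prod_univ_succ, Nat.gcd_comm]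

theorem card_out_E8 [Fintype F] (p f : ℕ) [Fact p.Prime] [CharP F p] (hF : Fintype.card F = p ^ f) :
    Nat.card (Cfsg.Out (chevE8.group F)) = f := by
  rw [sysE8.card_out connOK_E8 (symCert_id one_E8) torE8 (by decide), perm_E8,
    (ringAut_cyclic_card F hF).2, Nat.card_eq_fintype_card, hF]
  show 1 * ((∏ i : Fin 8, (p ^ f - 1).gcd (([1, 1, 1, 1, 1, 1, 1, 1] : List ℕ).getD i 0)) * f) = _
  simp [Fin.prod_univ_succ]

omit [Finite F] in
theorem index_cases {n : ℕ} (h : n ≤ 2) (h0 : 0 < n) {P : Prop} : n = 1 ∨ n = 2 ∨ P := by omega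

theorem out_structure_all {D : ChevalleyDatum}
    (hD : D ∈ [chevG2, chevB2, chevD4, chevF4, chevE6, chevE7, chevE8])
    (Dbar Fbar : Subgroup (Cfsg.Out (D.group F)))
    (hDbar : Dbar = (Subgroup.closure {φ : MulAut (D.group F) | D.IsDiagonalAut φ}).map
      (QuotientGroup.mk' (Cfsg.Inn (D.group F))))
    (hFbar : Fbar = (Subgroup.closure {φ : MulAut (D.group F) | D.IsFieldAut φ}).map
      (QuotientGroup.mk' (Cfsg.Inn (D.group F)))) :
    Dbar.Normal ∧ IsMulCommutative Dbar ∧ IsCyclic Fbar ∧ (Dbar ⊔ Fbar).Normal ∧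
      ((Dbar ⊔ Fbar).index = 1 ∨ (Dbar ⊔ Fbar).index = 2 ∨
        ((Dbar ⊔ Fbar).index = 6 ∧ ¬ commutator (Cfsg.Out (D.group F)) ≤ Dbar ⊔ Fbar)) := by
  have small : ∀ (S : Sys.{u} D), connOK D = true → S.bondOK = true → (syms D).length ≤ 2 →
      ∀ b, SymCert D id b → Dbar.Normal ∧ IsMulCommutative Dbar ∧ IsCyclic Fbar ∧
        (Dbar ⊔ Fbar).Normal ∧ ((Dbar ⊔ Fbar).index = 1 ∨ (Dbar ⊔ Fbar).index = 2 ∨
          ((Dbar ⊔ Fbar).index = 6 ∧ ¬ commutator (Cfsg.Out (D.group F)) ≤ Dbar ⊔ Fbar)) := by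
    intro S hc hb hs b hid
    obtain ⟨h1, h2, h3, h4, h5, -⟩ := S.out_structure hc hid Dbar Fbar hDbar hFbar
    exact ⟨h1, h2, h3, h4, index_cases (h5 ▸ (S.card_perm_le hb).trans hs) (h5 ▸ Nat.card_pos)⟩
  simp only [List.mem_cons, List.not_mem_nil, or_false] at hD
  rcases hD with rfl | rfl | rfl | rfl | rfl | rfl | rfl
  · exact small sysG2 connOK_G2 bondOK_G2 syms_G2.le 3 (multi_G2 1 fun _ _ _ => rfl)
  · exact small sysB2 connOK_B2 bondOK_B2 syms_B2.le 2 (multi_B2 1 fun _ _ _ => rfl)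
  · obtain ⟨h1, h2, h3, h4, h5, h6⟩ :=
      sysD4.out_structure connOK_D4 (symCert_id one_D4) Dbar Fbar hDbar hFbar
    obtain ⟨e, a, b, hab⟩ := perm_D4 F
    exact ⟨h1, h2, h3, h4, Or.inr (Or.inr ⟨h5.trans e, h6.resolve_left fun h => hab (h a b)⟩)⟩
  · exact small sysF4 connOK_F4 bondOK_F4 syms_F4.le 2 (multi_F4 1 fun _ _ _ => rfl)
  · exact small sysE6 connOK_E6 bondOK_E6 syms_E6.le 0 (symCert_id one_E6)
  · exact small sysE7 connOK_E7 bondOK_E7 (syms_E7.trans_le one_le_two) 0 (symCert_id one_E7)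
  · exact small sysE8 connOK_E8 bondOK_E8 (syms_E8.trans_le one_le_two) 0 (symCert_id one_E8)

end CfsgLib.Chev.AutThm
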